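import Groth.Prelude.Def_CDiv
import Groth.Agent.CommAlgDim.Depth
import Groth.Agent.NormalLib.Serre
import Mathlib

/-! Cartier divisors on an integral scheme: regularity at a point, algebraic Hartogs. -/

set_option autoImplicit false
set_option maxHeartbeats 800000
universe u

noncomputable section

open CategoryTheory AlgebraicGeometry TopologicalSpace IsLocalRing
open scoped Pointwise

namespace CDivCoreLib

section Alg

variable {A : Type u} [CommRing A] [IsDomain A] [IsLocalRing A] [IsNoetherianRing A]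

omit [IsDomain A] [IsNoetherianRing A] in
theorem smul_top_eq (b : A) : (b • (⊤ : Submodule A A)) = Ideal.span {b} := by
  ext z
  rw [Submodule.mem_smul_pointwise_iff_exists, Ideal.mem_span_singleton']
  exact ⟨fun ⟨w, _, h⟩ => ⟨w, by rw [mul_comm]; exact h⟩, fun ⟨w, h⟩ => ⟨w, trivial, by rw [smul_eq_mul, mul_comm]; exact h⟩⟩

theorem hasSeqIn_quot {b : A} (hb : b ∈ maximalIdeal A) (hb0 : b ≠ 0)
    (h : (2 : ℕ∞) ≤ LocCoh.depth A A) :
    CommAlgDim.HasSeqIn (maximalIdeal A) (QuotSMulTop b A) 1 :=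
  CommAlgDim.HasSeqIn.quotSMulTop hb (fun _ _ h => mul_left_cancel₀ hb0 h)
    ((CommAlgDim.le_depth_iff (R := A) (M := A) 2).1 h)

/-- Elements of the fraction field which are integral on the punctured spectrum of a local ring of
depth at least two are integral. -/
theorem mem_range_of_depth {K : Type u} [Field K] [Algebra A K] [IsFractionRing A K]
    (h : (2 : ℕ∞) ≤ LocCoh.depth A A) (f : K)
    (hf : ∀ p : Ideal A, p.IsPrime → p ≠ maximalIdeal A → ∃ c ∉ p, ∃ d, algebraMap A K c * f = algebraMap A K d) :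
    f ∈ Set.range (algebraMap A K) := by
  obtain ⟨a, b, hb, rfl⟩ := IsFractionRing.div_surjective A f
  have hb0 : b ≠ 0 := nonZeroDivisors.ne_zero hb
  have hbK : algebraMap A K b ≠ 0 := by simpa using hb0
  by_cases hbm : b ∈ maximalIdeal A
  · obtain ⟨rs, hl, hm, hr⟩ := hasSeqIn_quot hbm hb0 h
    obtain ⟨x, rfl⟩ := List.length_eq_one_iff.1 hl
    have hx : IsSMulRegular (QuotSMulTop b A) x := (RingTheory.Sequence.isWeaklyRegular_singleton_iff _ _).1 hr
    let J : Ideal A :=
      { carrier := {c | c * a ∈ Ideal.span {b}}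
        add_mem' := fun {p q} hp hq => by
          show (p + q) * a ∈ Ideal.span {b}
          rw [add_mul]; exact add_mem hp hq
        zero_mem' := by
          show (0 : A) * a ∈ Ideal.span {b}
          rw [zero_mul]; exact zero_mem _
        smul_mem' := fun r q hq => by
          show r * q * a ∈ Ideal.span {b}
          rw [mul_assoc]; exact Ideal.mul_mem_left _ _ hq }
    have hrad : x ∈ J.radical := by
      rw [Ideal.radical_eq_sInf, Ideal.mem_sInf]
      rintro p ⟨hJp, hp⟩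
      by_cases hpm : p = maximalIdeal A
      · exact hpm ▸ hm x (by simp)
      obtain ⟨c, hcp, d, hcd⟩ := hf p hp hpm
      refine absurd (hJp ?_) hcp
      show c * a ∈ Ideal.span {b}
      refine Ideal.mem_span_singleton'.2 ⟨d, IsFractionRing.injective A K ?_⟩
      rw [map_mul, map_mul, ← hcd, mul_assoc, div_mul_cancel₀ _ hbK]
    obtain ⟨n, hn⟩ := hrad
    obtain ⟨e, he⟩ : b ∣ a := by
      rw [← Ideal.mem_span_singleton, ← smul_top_eq, ← Submodule.Quotient.mk_eq_zero]
      refine (hx.pow n).right_eq_zero_of_smul ?_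
      rw [← Submodule.Quotient.mk_smul, Submodule.Quotient.mk_eq_zero, smul_top_eq]
      exact hn
    exact ⟨e, by rw [he, map_mul, mul_div_cancel_left₀ _ hbK]⟩
  · have hu : IsUnit b := by simpa using hbm
    obtain ⟨u, rfl⟩ := hu
    refine ⟨a * ↑u⁻¹, ?_⟩
    rw [eq_div_iff hbK, ← map_mul, mul_assoc, Units.inv_mul, mul_one]

theorem one_le_depth (hF : ¬ IsField A) : (1 : ℕ∞) ≤ LocCoh.depth A A := by
  obtain ⟨b, hb, hb0⟩ := Submodule.exists_mem_ne_zero_of_ne_bot
    (fun h => hF (IsLocalRing.isField_iff_maximalIdeal_eq.2 h))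
  rw [show (1 : ℕ∞) = ((1 : ℕ) : ℕ∞) from rfl, CommAlgDim.le_depth_iff (R := A) (M := A) 1]
  exact ⟨[b], rfl, by simpa using hb,
    (RingTheory.Sequence.isWeaklyRegular_singleton_iff _ _).2 (fun _ _ h => mul_left_cancel₀ hb0 h)⟩

theorem depth_eq_one (hF : ¬ IsField A) (h : ¬ (2 : ℕ∞) ≤ LocCoh.depth A A) : LocCoh.depth A A = 1 := by
  refine le_antisymm ?_ (one_le_depth hF)
  exact ENat.lt_coe_add_one_iff.1 (lt_of_not_ge h)

/-- A normal local domain of depth one is a discrete valuation ring. -/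
theorem isDVR_of_depth [IsIntegrallyClosed A] (hF : ¬ IsField A) (h : ¬ (2 : ℕ∞) ≤ LocCoh.depth A A) :
    IsDiscreteValuationRing A := by
  obtain ⟨b, hb, hb0⟩ := Submodule.exists_mem_ne_zero_of_ne_bot
    (fun h => hF (IsLocalRing.isField_iff_maximalIdeal_eq.2 h))
  have h1 : ¬ CommAlgDim.HasSeqIn (maximalIdeal A) (QuotSMulTop b A) 1 := fun h1 => h
    ((CommAlgDim.le_depth_iff (R := A) (M := A) 2).2
      (CommAlgDim.hasSeqIn_succ_of_cons hb (fun _ _ h => mul_left_cancel₀ hb0 h) h1))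
  rw [CommAlgDim.hasSeqIn_one_iff] at h1
  push Not at h1
  obtain ⟨p, hp, hmp⟩ := h1
  have hpm : p = maximalIdeal A := le_antisymm (IsLocalRing.le_maximalIdeal hp.isPrime.ne_top) hmp
  subst hpm
  refine NormalLib.isDVR_of_maximalIdeal_mem_associatedPrimes hb0 ?_
  let e : QuotSMulTop b A ≃ₗ[A] (A ⧸ Ideal.span {b}) := Submodule.quotEquivOfEq _ _ (smul_top_eq b)
  rw [← LinearEquiv.AssociatedPrimes.eq e]
  exact hp

end Alg

variable {X : Scheme.{u}} [IsIntegral X]

/-- `f` is regular at `x`. -/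
def Reg (f : X.functionField) (x : X) : Prop :=
  f ∈ Set.range (algebraMap (X.presheaf.stalk x) X.functionField)

theorem algebraMap_germ {U : X.Opens} {x : X} (hx : x ∈ U) (hη : genericPoint X ∈ U) (s : Γ(X, U)) :
    algebraMap (X.presheaf.stalk x) X.functionField (X.presheaf.germ U x hx s) =
      X.presheaf.germ U (genericPoint X) hη s := by
  show X.presheaf.stalkSpecializes _ (X.presheaf.germ U x hx s) = _
  rw [TopCat.Presheaf.germ_stalkSpecializes_apply]

theorem mem_of_open {U : X.Opens} {x : X} (hx : x ∈ U) : genericPoint X ∈ U :=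
  ((genericPoint_spec X).specializes trivial).mem_open U.2 hx

theorem exists_nhd_reg {f : X.functionField} {x : X} (h : Reg f x) :
    ∃ U : X.Opens, x ∈ U ∧ ∀ y ∈ U, Reg f y := by
  obtain ⟨a, rfl⟩ := h
  obtain ⟨U, hxU, s, rfl⟩ := X.presheaf.exists_germ_eq a
  refine ⟨U, hxU, fun y hy => ⟨X.presheaf.germ U y hy s, ?_⟩⟩
  rw [algebraMap_germ hy (mem_of_open hy), algebraMap_germ hxU (mem_of_open hxU)]

theorem reg_of_specializes {f : X.functionField} {x y : X} (h : y ⤳ x) (hf : Reg f x) : Reg f y := by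
  obtain ⟨U, hxU, hU⟩ := exists_nhd_reg hf
  exact hU y (h.mem_open U.2 hxU)

theorem reg_generic (f : X.functionField) : Reg f (genericPoint X) := by
  refine ⟨f, ?_⟩
  show X.presheaf.stalkSpecializes _ f = f
  rw [TopCat.Presheaf.stalkSpecializes_refl]
  rfl

theorem reg_mul {f g : X.functionField} {x : X} (hf : Reg f x) (hg : Reg g x) : Reg (f * g) x := by
  obtain ⟨a, rfl⟩ := hf
  obtain ⟨b, rfl⟩ := hg
  exact ⟨a * b, map_mul _ _ _⟩

theorem not_isField_stalk {f : X.functionField} {x : X} (h : ¬ Reg f x) : ¬ IsField (X.presheaf.stalk x) := fun hF => by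
  letI := hF.toField
  obtain ⟨a, b, -, rfl⟩ := IsFractionRing.div_surjective (X.presheaf.stalk x) f
  exact h ⟨a / b, map_div₀ _ _ _⟩

/-- A non-regular point has a generization which is maximal among non-regular points. -/
theorem exists_max_not_reg [IsLocallyNoetherian X] {f : X.functionField} {x : X} (h : ¬ Reg f x) :
    ∃ y : X, y ⤳ x ∧ ¬ Reg f y ∧ ∀ z, z ⤳ y → z ≠ y → Reg f z := by
  obtain ⟨V, hV, hxV, -⟩ := exists_isAffineOpen_mem_and_subset (x := x) (U := ⊤) trivial
  haveI : IsNoetherianRing Γ(X, V) := IsLocallyNoetherian.component_noetherian ⟨V, hV⟩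
  haveI : NoetherianSpace (V : Set X) := noetherianSpace_of_isAffineOpen V hV
  let T : Set X := {z | ¬ Reg f z} ∩ V
  have hxT : x ∈ T := ⟨h, hxV⟩
  have hclosed : IsClosed {z : X | ¬ Reg f z} := by
    refine ⟨isOpen_iff_forall_mem_open.2 fun z hz => ?_⟩
    obtain ⟨W, hzW, hW⟩ := exists_nhd_reg (f := f) (x := z) (by simpa using hz)
    exact ⟨W, fun w hw => by simpa using hW w hw, W.2, hzW⟩
  haveI : NoetherianSpace T :=
    (Topology.IsEmbedding.inclusion (Set.inter_subset_right : T ⊆ (V : Set X))).isInducing.noetherianSpace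
  let C := irreducibleComponent (⟨x, hxT⟩ : T)
  have hirr : IsIrreducible (Subtype.val '' C : Set X) :=
    IsIrreducible.image isIrreducible_irreducibleComponent Subtype.val continuous_subtype_val.continuousOn
  let y := hirr.genericPoint
  have hgp : IsGenericPoint y (closure (Subtype.val '' C)) := hirr.isGenericPoint_genericPoint_closure
  have hyx : y ⤳ x := hgp.specializes (subset_closure ⟨_, mem_irreducibleComponent, rfl⟩)
  have hyV : y ∈ V := hyx.mem_open V.2 hxV
  have hyb : ¬ Reg f y :=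
    (closure_minimal (by rintro _ ⟨z, -, rfl⟩; exact z.2.1) hclosed) hgp.mem
  refine ⟨y, hyx, hyb, fun z hzy hne => ?_⟩
  by_contra hz
  have hzT : z ∈ T := ⟨hz, hzy.mem_open V.2 hyV⟩
  let C' : Set T := closure {⟨z, hzT⟩}
  have hsub : C ⊆ C' := fun w hw => by
    refine (Topology.IsInducing.subtypeVal.closure_eq_preimage_closure_image ({⟨z, hzT⟩} : Set T)).symm.subset ?_
    show (w : X) ∈ closure (Subtype.val '' ({⟨z, hzT⟩} : Set T))
    rw [Set.image_singleton, ← specializes_iff_mem_closure]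
    exact hzy.trans (hgp.specializes (subset_closure ⟨w, hw, rfl⟩))
  have hC' : C' = C :=
    eq_irreducibleComponent isIrreducible_singleton.closure.isPreirreducible hsub
  refine hne (hzy.antisymm (hgp.specializes (subset_closure ⟨⟨z, hzT⟩, ?_, rfl⟩))).eq
  rw [← hC']
  exact subset_closure rfl

/-- The prime of a local ring of a point corresponding to a proper generization. -/
theorem exists_not_mem_of_reg {f : X.functionField} {x : X} (p : Ideal (X.presheaf.stalk x)) (hp : p.IsPrime)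
    (hreg : Reg f (X.fromSpecStalk x ⟨p, hp⟩)) :
    ∃ c ∉ p, ∃ d, algebraMap (X.presheaf.stalk x) X.functionField c * f =
      algebraMap (X.presheaf.stalk x) X.functionField d := by
  obtain ⟨U, hU, hxU, -⟩ := exists_isAffineOpen_mem_and_subset (x := x) (U := ⊤) trivial
  have hzx : X.fromSpecStalk x ⟨p, hp⟩ ⤳ x := by
    have : X.fromSpecStalk x ⟨p, hp⟩ ∈ Set.range (X.fromSpecStalk x) := ⟨_, rfl⟩
    rwa [Scheme.range_fromSpecStalk] at this
  have hzU : X.fromSpecStalk x ⟨p, hp⟩ ∈ U := hzx.mem_open U.2 hxU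
  let _hA := TopCat.Presheaf.algebra_section_stalk X.presheaf (⟨_, hzU⟩ : U)
  haveI := hU.isLocalization_stalk ⟨_, hzU⟩
  obtain ⟨a, ha⟩ := hreg
  obtain ⟨⟨s, t⟩, hst⟩ := IsLocalization.surj (hU.primeIdealOf ⟨_, hzU⟩).asIdeal.primeCompl a
  refine ⟨X.presheaf.germ U x hxU t.1, fun hc => t.2 ?_, X.presheaf.germ U x hxU s, ?_⟩
  · have e : hU.primeIdealOf ⟨_, hzU⟩ = Spec.map (X.presheaf.germ U x hxU) ⟨p, hp⟩ := by
      refine hU.fromSpec.isOpenEmbedding.injective ?_
      erw [hU.fromSpec_primeIdealOf]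
      have e2 := congrArg (fun φ : Spec (X.presheaf.stalk x) ⟶ X => φ ⟨p, hp⟩)
        (hU.fromSpecStalk_eq_fromSpecStalk hxU)
      exact e2.symm
    exact (SetLike.ext_iff.1 (congrArg PrimeSpectrum.asIdeal e) t.1).2 hc
  · have h1 := congrArg (algebraMap (X.presheaf.stalk (X.fromSpecStalk x ⟨p, hp⟩)) X.functionField) hst
    rw [map_mul, ha] at h1
    rw [algebraMap_germ hxU (mem_of_open hxU), algebraMap_germ hxU (mem_of_open hxU)]
    refine (mul_comm _ _).trans ?_
    refine ((congrArg (f * ·) ?_).trans h1).trans (algebraMap_germ hzU (mem_of_open hxU) s)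
    exact (algebraMap_germ hzU (mem_of_open hxU) t.1).symm

/-- Algebraic Hartogs at a point of depth at least two. -/
theorem reg_of_depth [IsLocallyNoetherian X] {f : X.functionField} {x : X}
    (hd : (2 : ℕ∞) ≤ LocCoh.depth (X.presheaf.stalk x) (X.presheaf.stalk x))
    (hpun : ∀ z, z ⤳ x → z ≠ x → Reg f z) : Reg f x := by
  refine mem_range_of_depth hd f fun p hp hpm => exists_not_mem_of_reg p hp (hpun _ ?_ ?_)
  · have : X.fromSpecStalk x ⟨p, hp⟩ ∈ Set.range (X.fromSpecStalk x) := ⟨_, rfl⟩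
    rwa [Scheme.range_fromSpecStalk] at this
  · intro he
    have h2 : X.fromSpecStalk x ⟨p, hp⟩ = X.fromSpecStalk x (IsLocalRing.closedPoint _) := by
      rw [he, Scheme.fromSpecStalk_closedPoint]
    exact hpm (congrArg PrimeSpectrum.asIdeal ((X.fromSpecStalk x).isEmbedding.injective h2))

/-- A function is regular at `x` if it is regular at all generizations of depth one. -/
theorem reg_of_depth_one [IsLocallyNoetherian X] {f : X.functionField} {x : X}
    (h : ∀ y, y ⤳ x → LocCoh.depth (X.presheaf.stalk y) (X.presheaf.stalk y) = 1 → Reg f y) : Reg f x := by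
  by_contra hx
  obtain ⟨y, hyx, hy, hmax⟩ := exists_max_not_reg hx
  refine hy (h y hyx (depth_eq_one (not_isField_stalk hy) fun hd => hy (reg_of_depth hd hmax)))

open CDiv

theorem germOf_eq_iff {x : X} {f g : KUnits X} :
    germOf X x f = germOf X x g ↔ Reg ((f⁻¹ * g : KUnits X) : X.functionField) x ∧ Reg (((f⁻¹ * g : KUnits X)⁻¹ : KUnits X) : X.functionField) x := by
  rw [QuotientGroup.eq]
  constructor
  · rintro ⟨u, hu⟩
    refine ⟨⟨u, congrArg Units.val hu⟩, ⟨((u⁻¹ : _) : X.presheaf.stalk x), ?_⟩⟩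
    rw [← hu, ← map_inv]
    rfl
  · rintro ⟨⟨a, ha⟩, ⟨b, hb⟩⟩
    have hab : a * b = 1 := IsFractionRing.injective (X.presheaf.stalk x) X.functionField
      (by rw [map_mul, ha, hb, map_one, ← Units.val_mul, mul_inv_cancel, Units.val_one])
    exact ⟨Units.mkOfMulEqOne _ _ hab, Units.ext ha⟩

theorem germOf_eq_one_iff {x : X} {f : KUnits X} :
    germOf X x f = 1 ↔ Reg (f : X.functionField) x ∧ Reg ((f⁻¹ : KUnits X) : X.functionField) x := by
  rw [eq_comm, show (1 : Germ X x) = germOf X x 1 from rfl, germOf_eq_iff, inv_one, one_mul]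

theorem isEffectiveAt_iff {D : Divisor X} {x : X} {f : KUnits X} (h : D.1 x = germOf X x f) :
    IsEffectiveAt D x ↔ Reg (f : X.functionField) x := by
  constructor
  · rintro ⟨a, ha, he⟩
    rw [h, germOf_eq_iff] at he
    have := reg_mul (show Reg (((f⁻¹ * Units.mk0 _ ha : KUnits X)⁻¹ : KUnits X) : X.functionField) x from he.2)
      (show Reg ((Units.mk0 _ ha : KUnits X) : X.functionField) x from ⟨a, rfl⟩)
    rwa [← Units.val_mul, mul_inv_rev, inv_inv, mul_comm _ f, inv_mul_cancel_right] at this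
  · rintro ⟨a, ha⟩
    refine ⟨a, by rw [ha]; exact f.ne_zero, ?_⟩
    rw [h]
    congr 1
    exact Units.ext ha.symm

theorem eq_one_iff_effective {D : Divisor X} {x : X} :
    D.1 x = 1 ↔ IsEffectiveAt D x ∧ IsEffectiveAt D⁻¹ x := by
  obtain ⟨f, hf⟩ := QuotientGroup.mk_surjective (D.1 x)
  have hf' : (D⁻¹).1 x = germOf X x f⁻¹ := by
    show (D.1 x)⁻¹ = _
    rw [← hf]; rfl
  rw [isEffectiveAt_iff hf.symm, isEffectiveAt_iff hf', ← germOf_eq_one_iff, ← hf]

theorem supp_isClosed (D : Divisor X) : IsClosed (supp D) := by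
  refine ⟨isOpen_iff_forall_mem_open.2 fun x hx => ?_⟩
  obtain ⟨U, f, hxU, hU⟩ := D.2 x
  have hx' : germOf X x f = 1 := (hU x hxU).symm.trans (by simpa [supp] using hx)
  obtain ⟨h1, h2⟩ := germOf_eq_one_iff.1 hx'
  obtain ⟨V, hxV, hV⟩ := exists_nhd_reg h1
  obtain ⟨W, hxW, hW⟩ := exists_nhd_reg h2
  refine ⟨(U ⊓ V ⊓ W : X.Opens), fun y hy => ?_, (U ⊓ V ⊓ W).2, ⟨⟨hxU, hxV⟩, hxW⟩⟩
  show ¬ D.1 y ≠ 1
  rw [not_not, hU y hy.1.1]
  exact germOf_eq_one_iff.2 ⟨hV y hy.1.2, hW y hy.2⟩

theorem generic_not_mem_supp (D : Divisor X) : genericPoint X ∉ supp D := by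
  obtain ⟨f, hf⟩ := QuotientGroup.mk_surjective (D.1 (genericPoint X))
  show ¬ D.1 _ ≠ 1
  rw [not_not, ← hf]
  exact germOf_eq_one_iff.2 ⟨reg_generic _, reg_generic _⟩

theorem isEffective_of_depth [IsLocallyNoetherian X] (D : Divisor X)
    (h : ∀ x, LocCoh.depth (X.presheaf.stalk x) (X.presheaf.stalk x) = 1 → IsEffectiveAt D x) :
    IsEffective D := fun x => by
  obtain ⟨U, f, hxU, hU⟩ := D.2 x
  rw [isEffectiveAt_iff (hU x hxU)]
  exact reg_of_depth_one fun y hy hd => (isEffectiveAt_iff (hU y (hy.mem_open U.2 hxU))).1 (h y hd)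

theorem depth_one_points [IsLocallyNoetherian X] (D : Divisor X) :
    ((∀ x : X, LocCoh.depth (X.presheaf.stalk x) (X.presheaf.stalk x) = 1 → IsEffectiveAt D x) → IsEffective D) ∧
      ((∀ x : X, LocCoh.depth (X.presheaf.stalk x) (X.presheaf.stalk x) = 1 → D.1 x = 1) → D = 1) := by
  refine ⟨isEffective_of_depth D, fun h => Subtype.ext (funext fun x => ?_)⟩
  exact eq_one_iff_effective.2 ⟨isEffective_of_depth D (fun y hy => (eq_one_iff_effective.1 (h y hy)).1) x,
    isEffective_of_depth D⁻¹ (fun y hy => (eq_one_iff_effective.1 (h y hy)).2) x⟩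

theorem depth_eq_one_of_max [IsLocallyNoetherian X] (D : Divisor X) (x : X) (hx : x ∈ supp D)
    (hmax : ∀ z : X, z ∈ supp D → z ⤳ x → z = x) :
    LocCoh.depth (X.presheaf.stalk x) (X.presheaf.stalk x) = 1 := by
  obtain ⟨U, f, hxU, hU⟩ := D.2 x
  have hbad : ¬ (Reg (f : X.functionField) x ∧ Reg ((f⁻¹ : KUnits X) : X.functionField) x) := fun h =>
    hx ((hU x hxU).trans (germOf_eq_one_iff.2 h))
  have hgood : ∀ z, z ⤳ x → z ≠ x → Reg (f : X.functionField) z ∧ Reg ((f⁻¹ : KUnits X) : X.functionField) z :=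
    fun z hz hne => germOf_eq_one_iff.1 ((hU z (hz.mem_open U.2 hxU)).symm.trans (by
      by_contra hc; exact hne (hmax z hc hz)))
  refine depth_eq_one ?_ fun hd => hbad
    ⟨reg_of_depth hd fun z hz hne => (hgood z hz hne).1, reg_of_depth hd fun z hz hne => (hgood z hz hne).2⟩
  intro hF
  letI := hF.toField
  refine hbad ⟨by_contra fun hc => not_isField_stalk hc hF, by_contra fun hc => not_isField_stalk hc hF⟩

end CDivCoreLib
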