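import Groth.Agent.CDivCoreLib.Basic
import Mathlib

/-! Divisors on integral schemes of dimension at most one. -/

set_option autoImplicit false
set_option maxHeartbeats 800000
universe u

noncomputable section

open CategoryTheory AlgebraicGeometry TopologicalSpace

namespace CDivCoreLib

open CDiv

variable {X : Scheme.{u}} [IsIntegral X]

/-- A point whose stalk is a field is the generic point. -/
theorem eq_generic_of_isField {x : X} (h : IsField (X.presheaf.stalk x)) : x = genericPoint X := by
  obtain ⟨p, hp⟩ := X.range_fromSpecStalk.ge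
    (show genericPoint X ⤳ x from (genericPoint_spec X).specializes trivial)
  have e : p = IsLocalRing.closedPoint _ := by
    refine PrimeSpectrum.ext ?_
    show p.asIdeal = IsLocalRing.maximalIdeal _
    rw [IsLocalRing.isField_iff_maximalIdeal_eq.1 h]
    exact le_bot_iff.1 ((IsLocalRing.le_maximalIdeal p.isPrime.ne_top).trans_eq
      (IsLocalRing.isField_iff_maximalIdeal_eq.1 h))
  rw [e, Scheme.fromSpecStalk_closedPoint] at hp
  exact hp

/-- In dimension at most one, every point other than the generic point is closed. -/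
theorem eq_of_specializes (hdim : topologicalKrullDim ↥X ≤ 1) {y z : X} (hy : y ≠ genericPoint X)
    (h : y ⤳ z) : z = y := by
  by_contra hne
  let c : X → IrreducibleCloseds X := fun w =>
    ⟨closure {w}, isIrreducible_singleton.closure, isClosed_closure⟩
  have lt : ∀ {a b : X}, b ⤳ a → a ≠ b → c a < c b := fun {a b} hba hab => by
    have hle : closure {a} ⊆ closure {b} := specializes_iff_closure_subset.1 hba
    refine lt_of_le_of_ne hle fun he => hab ?_
    exact ((specializes_iff_closure_subset.2 (le_of_eq (congrArg IrreducibleCloseds.carrier he).symm)).antisymm hba).eq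
  let s : LTSeries (IrreducibleCloseds X) :=
    ((RelSeries.singleton _ (c z)).snoc (c y) (lt h hne)).snoc (c (genericPoint X))
      (by simpa using lt ((genericPoint_spec X).specializes trivial) hy)
  have := (Order.LTSeries.length_le_krullDim s).trans hdim
  simp [s] at this

/-- A closed subset avoiding the generic point is discrete. -/
theorem discrete_of_closed [IsLocallyNoetherian X] (hdim : topologicalKrullDim ↥X ≤ 1) {T : Set X}
    (hT : IsClosed T) (hη : genericPoint X ∉ T) : DiscreteTopology T := by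
  rw [discreteTopology_iff_isOpen_singleton]
  rintro ⟨x, hx⟩
  obtain ⟨V, hV, hxV, -⟩ := exists_isAffineOpen_mem_and_subset (x := x) (U := ⊤) trivial
  haveI : IsNoetherianRing Γ(X, V) := IsLocallyNoetherian.component_noetherian ⟨V, hV⟩
  haveI : NoetherianSpace (V : Set X) := noetherianSpace_of_isAffineOpen V hV
  haveI : NoetherianSpace (T ∩ V : Set X) :=
    (Topology.IsEmbedding.inclusion (Set.inter_subset_right : T ∩ V ⊆ (V : Set X))).isInducing.noetherianSpace
  have hclosed : ∀ w ∈ T, IsClosed ({w} : Set X) := fun w hw => by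
    rw [← closure_subset_iff_isClosed]
    intro z hz
    exact eq_of_specializes hdim (fun e => hη (e ▸ hw)) (specializes_iff_mem_closure.2 hz)
  have hfin : (T ∩ V : Set X).Finite := by
    haveI : Finite (irreducibleComponents (T ∩ V : Set X)) := NoetherianSpace.finite_irreducibleComponents
    let g : irreducibleComponents (T ∩ V : Set X) → X := fun C =>
      (IsIrreducible.image C.2.1 Subtype.val continuous_subtype_val.continuousOn).genericPoint
    refine (Set.finite_range g).subset fun w hw => ?_
    let C : irreducibleComponents (T ∩ V : Set X) :=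
      ⟨irreducibleComponent ⟨w, hw⟩, irreducibleComponent_mem_irreducibleComponents _⟩
    have hirr := IsIrreducible.image C.2.1 Subtype.val continuous_subtype_val.continuousOn
    have hgp : IsGenericPoint (g C) (closure (Subtype.val '' C.1)) := hirr.isGenericPoint_genericPoint_closure
    have hgT : g C ∈ T := (closure_minimal (by rintro _ ⟨z, -, rfl⟩; exact z.2.1) hT) hgp.mem
    exact ⟨C, (eq_of_specializes hdim (fun e => hη (e ▸ hgT))
      (hgp.specializes (subset_closure ⟨_, mem_irreducibleComponent, rfl⟩))).symm⟩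
  have hrest : IsClosed ((T ∩ V : Set X) \ {x}) := by
    rw [← Set.biUnion_of_singleton ((T ∩ V : Set X) \ {x})]
    exact (hfin.subset Set.sdiff_subset).isClosed_biUnion fun w hw => hclosed w hw.1.1
  refine ⟨(V : Set X) ∩ ((T ∩ V : Set X) \ {x})ᶜ, V.2.inter hrest.isOpen_compl, ?_⟩
  ext ⟨w, hw⟩
  simp only [Set.mem_preimage, Set.mem_inter_iff, SetLike.mem_coe, Set.mem_compl_iff, Set.mem_sdiff,
    Set.mem_singleton_iff, not_and, not_not, Subtype.mk.injEq]
  exact ⟨fun h => h.2 ⟨hw, h.1⟩, fun h => ⟨h ▸ hxV, fun _ => h⟩⟩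

theorem supp_discrete [IsLocallyNoetherian X] (hdim : topologicalKrullDim ↥X ≤ 1) (D : Divisor X) :
    IsClosed (supp D) ∧ DiscreteTopology (supp D) :=
  ⟨supp_isClosed D, discrete_of_closed hdim (supp_isClosed D) (generic_not_mem_supp D)⟩

theorem isClosed_diff_singleton {T : Set X} (hT : IsClosed T) (hd : DiscreteTopology T) (x : X) :
    IsClosed (T \ {x}) := by
  haveI := hd
  have := hT.isClosedEmbedding_subtypeVal.isClosedMap _ (isClosed_discrete {w : T | w.1 ≠ x})
  convert! this using 1
  ext w
  simp [Set.mem_sdiff]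
  tauto

/-- Divisors with prescribed germs on a closed discrete subset. -/
theorem exists_divisor [IsLocallyNoetherian X] (hdim : topologicalKrullDim ↥X ≤ 1) (E : Set X)
    (hE : IsClosed E) (hEd : DiscreteTopology E) (d : ∀ x : X, Germ X x) :
    ∃ D : Divisor X, supp D ⊆ E ∧ ∀ x ∈ E, D.1 x = d x := by
  classical
  refine ⟨⟨fun x => if x ∈ E then d x else 1, fun x => ?_⟩, fun x hx => ?_, fun x hx => if_pos hx⟩
  · by_cases hx : x ∈ E
    · obtain ⟨f, hf⟩ := QuotientGroup.mk_surjective (d x)
      obtain ⟨hc, hd⟩ := supp_discrete hdim (div f : Divisor X)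
      let U : X.Opens := ⟨(E \ {x})ᶜ ∩ (supp (div f : Divisor X) \ {x})ᶜ,
        (isClosed_diff_singleton hE hEd x).isOpen_compl.inter (isClosed_diff_singleton hc hd x).isOpen_compl⟩
      refine ⟨U, f, ⟨fun h => h.2 rfl, fun h => h.2 rfl⟩, fun y hy => ?_⟩
      by_cases hyx : y = x
      · subst hyx
        show (if y ∈ E then d y else 1) = _
        rw [if_pos hx]
        exact hf.symm
      · show (if y ∈ E then d y else 1) = _
        rw [if_neg fun h => hy.1 ⟨h, hyx⟩]
        have : ¬ y ∈ supp (div f : Divisor X) := fun h => hy.2 ⟨h, hyx⟩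
        exact (not_not.1 this).symm
    · refine ⟨⟨Eᶜ, hE.isOpen_compl⟩, 1, hx, fun y hy => ?_⟩
      show (if y ∈ E then d y else 1) = _
      rw [if_neg hy]
      rfl
  · by_contra hc
    exact hx (if_neg hc)

theorem existsUnique_divisor [IsLocallyNoetherian X] (hdim : topologicalKrullDim ↥X ≤ 1) (E : Set X)
    (hE : IsClosed E) (hEd : DiscreteTopology E) (d : ∀ x : X, Germ X x) :
    ∃! D : Divisor X, supp D ⊆ E ∧ ∀ x ∈ E, D.1 x = d x := by
  obtain ⟨D, h1, h2⟩ := exists_divisor hdim E hE hEd d
  refine ⟨D, ⟨h1, h2⟩, fun D' ⟨h1', h2'⟩ => Subtype.ext (funext fun x => ?_)⟩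
  by_cases hx : x ∈ E
  · rw [h2' x hx, h2 x hx]
  · rw [not_not.1 fun h => hx (h1' h), not_not.1 fun h => hx (h1 h)]

theorem isEffective_of_mem {D : Divisor X} (h : ∀ x ∈ supp D, IsEffectiveAt D x) : IsEffective D := fun x => by
  by_cases hx : x ∈ supp D
  · exact h x hx
  · exact (eq_one_iff_effective.1 (not_not.1 hx)).1

theorem effective_decomposition [IsLocallyNoetherian X] (hdim : topologicalKrullDim ↥X ≤ 1) (D : Divisor X) :
    ∃ D' D'' : Divisor X, IsEffective D' ∧ IsEffective D'' ∧ D = D' * D''⁻¹ ∧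
      supp D' ⊆ supp D ∧ supp D'' ⊆ supp D := by
  have h : ∀ x : X, ∃ a b : KUnits X, Reg (a : X.functionField) x ∧ Reg (b : X.functionField) x ∧
      D.1 x = germOf X x (a * b⁻¹) := fun x => by
    obtain ⟨f, hf⟩ := QuotientGroup.mk_surjective (D.1 x)
    obtain ⟨a, b, hb, hab⟩ := IsFractionRing.div_surjective (X.presheaf.stalk x) (f : X.functionField)
    have hb' : algebraMap (X.presheaf.stalk x) X.functionField b ≠ 0 := by
      simpa using nonZeroDivisors.ne_zero hb
    have ha' : algebraMap (X.presheaf.stalk x) X.functionField a ≠ 0 := fun h => by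
      rw [h, zero_div] at hab; exact f.ne_zero hab.symm
    refine ⟨Units.mk0 _ ha', Units.mk0 _ hb', ⟨a, rfl⟩, ⟨b, rfl⟩, ?_⟩
    rw [← hf]
    exact congrArg _ (Units.ext (by rw [← hab]; simp [div_eq_mul_inv]))
  choose a b ha hb hab using h
  obtain ⟨hc, hd⟩ := supp_discrete hdim D
  obtain ⟨D', h1, h1'⟩ := exists_divisor hdim _ hc hd (fun x => germOf X x (a x))
  obtain ⟨D'', h2, h2'⟩ := exists_divisor hdim _ hc hd (fun x => germOf X x (b x))
  refine ⟨D', D'', isEffective_of_mem fun x hx => (isEffectiveAt_iff (h1' x (h1 hx))).2 (ha x),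
    isEffective_of_mem fun x hx => (isEffectiveAt_iff (h2' x (h2 hx))).2 (hb x), ?_, h1, h2⟩
  refine Subtype.ext (funext fun x => ?_)
  show D.1 x = D'.1 x * (D''.1 x)⁻¹
  by_cases hx : x ∈ supp D
  · rw [h1' x hx, h2' x hx, hab x]
    rfl
  · have e1 : D.1 x = 1 := not_not.1 hx
    have e2 : D'.1 x = 1 := not_not.1 fun h => hx (h1 h)
    have e3 : D''.1 x = 1 := not_not.1 fun h => hx (h2 h)
    rw [e1, e2, e3, inv_one]
    exact (one_mul (1 : Germ X x)).symm

theorem exists_effective_supported [IsLocallyNoetherian X] (hdim : topologicalKrullDim ↥X ≤ 1)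
    (hX : ∀ x : X, ¬ IsOpen ({x} : Set X)) (U : X.Opens) (hU : (U : Set X).Nonempty) :
    ∃ D : Divisor X, IsEffective D ∧ D ≠ 1 ∧ supp D ⊆ (U : Set X) := by
  obtain ⟨x, hxU, hxη⟩ : ∃ x ∈ U, x ≠ genericPoint X := by
    by_contra h
    push Not at h
    refine hX (genericPoint X) ?_
    convert! U.2 using 1
    exact Set.eq_of_subset_of_subset (Set.singleton_subset_iff.2
      (((genericPoint_spec X).mem_open_set_iff U.2).2 (by simpa using hU))) fun y hy => h y hy
  have hcl : IsClosed ({x} : Set X) := by
    rw [← closure_subset_iff_isClosed]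
    exact fun z hz => eq_of_specializes hdim hxη (specializes_iff_mem_closure.2 hz)
  have hnF : ¬ IsField (X.presheaf.stalk x) := fun h => hxη (eq_generic_of_isField h)
  obtain ⟨a, ha, ha0⟩ := Submodule.exists_mem_ne_zero_of_ne_bot
    (fun h => hnF (IsLocalRing.isField_iff_maximalIdeal_eq.2 h))
  have ha' : algebraMap (X.presheaf.stalk x) X.functionField a ≠ 0 := by simpa using ha0
  obtain ⟨D, h1, h2⟩ := exists_divisor hdim {x} hcl inferInstance (fun y => (germOf X y (Units.mk0 _ ha')))
  refine ⟨D, isEffective_of_mem fun y hy => ?_, fun h => ?_, h1.trans (Set.singleton_subset_iff.2 hxU)⟩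
  · obtain rfl : y = x := h1 hy
    exact (isEffectiveAt_iff (h2 y rfl)).2 ⟨a, rfl⟩
  · have h3 := h2 x rfl
    rw [h] at h3
    obtain ⟨-, b, hb⟩ := germOf_eq_one_iff.1 h3.symm
    refine (IsLocalRing.mem_maximalIdeal a).1 ha (IsUnit.of_mul_eq_one b
      (IsFractionRing.injective (X.presheaf.stalk x) X.functionField ?_))
    rw [map_mul, hb, map_one]
    exact (Units.mk0 _ ha').mul_inv

end CDivCoreLib
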