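import Groth.Agent.CDivCoreLib.DimOne
import Groth.Prelude.Def_Pi1
import Mathlib

/-! Divisors on normal schemes: orders at codimension one, factoriality. -/

set_option autoImplicit false
set_option maxHeartbeats 800000
universe u

noncomputable section

open CategoryTheory AlgebraicGeometry TopologicalSpace IsLocalRing

namespace CDivCoreLib

open CDiv

variable {X : Scheme.{u}} [IsIntegral X] [IsLocallyNoetherian X] (hX : Pi1.IsNormalScheme X)

include hX

theorem isDVR_of_coheight {z : X} (hz : Order.coheight z = 1) :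
    IsDiscreteValuationRing (X.presheaf.stalk z) := by
  haveI := (hX z).2
  haveI : Ring.KrullDimLE 1 (X.presheaf.stalk z) := krullDimLE_of_coheight_le hz.le
  have hd : ringKrullDim (X.presheaf.stalk z) = 1 := by
    rw [ringKrullDim_stalk_eq_coheight, hz]; rfl
  have hnF : ¬ IsField (X.presheaf.stalk z) := fun h => by
    rw [ringKrullDim_eq_zero_of_isField h] at hd
    exact zero_ne_one hd
  have hiff : (IsIntegrallyClosed (X.presheaf.stalk z) ∧ ∃! P : Ideal (X.presheaf.stalk z), P ≠ ⊥ ∧ P.IsPrime) ↔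
      IsDiscreteValuationRing (X.presheaf.stalk z) := (IsDiscreteValuationRing.TFAE _ hnF).out 3 0
  refine hiff.1 ⟨inferInstance, maximalIdeal _,
    ⟨fun h => hnF (isField_iff_maximalIdeal_eq.2 h), inferInstance⟩, fun P ⟨hP, hp⟩ => ?_⟩
  exact IsLocalRing.eq_maximalIdeal (hp.isMaximal_of_ne_bot hP)

theorem coheight_of_depth {y : X} (hd : LocCoh.depth (X.presheaf.stalk y) (X.presheaf.stalk y) = 1) :
    Order.coheight y = 1 := by
  haveI := (hX y).2
  have hnF : ¬ IsField (X.presheaf.stalk y) := fun hF => by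
    obtain ⟨rs, hl, hm, hr⟩ := (CommAlgDim.le_depth_iff (R := X.presheaf.stalk y) (M := X.presheaf.stalk y) 1).1
      (le_of_eq hd.symm)
    obtain ⟨r, rfl⟩ := List.length_eq_one_iff.1 hl
    have h0 : r = 0 := by
      have := hm r (by simp)
      rwa [isField_iff_maximalIdeal_eq.1 hF, Ideal.mem_bot] at this
    subst h0
    exact zero_ne_one ((RingTheory.Sequence.isWeaklyRegular_singleton_iff _ _).1 hr (by simp : (0 : X.presheaf.stalk y) • (0 : X.presheaf.stalk y) = (0 : X.presheaf.stalk y) • 1))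
  haveI := isDVR_of_depth hnF (by rw [hd]; decide)
  have := IsDiscreteValuationRing.ringKrullDim_eq_one (X.presheaf.stalk y)
  rw [ringKrullDim_stalk_eq_coheight] at this
  exact_mod_cast this

/-- Algebraic Hartogs on a normal scheme. -/
theorem reg_of_coheight_one {f : X.functionField} {x : X}
    (h : ∀ y, y ⤳ x → Order.coheight y = 1 → Reg f y) : Reg f x :=
  reg_of_depth_one fun y hy hd => h y hy (coheight_of_depth hX hd)

theorem ord_nonneg_of_reg {z : X} (hz : Order.coheight z = 1) {f : X.functionField} (hf : f ≠ 0)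
    (h : Reg f z) : 0 ≤ Scheme.ord f z := by
  haveI := isDVR_of_coheight hX hz
  haveI : Ring.KrullDimLE 1 (X.presheaf.stalk z) := krullDimLE_of_coheight_le hz.le
  obtain ⟨a, rfl⟩ := h
  rw [Scheme.le_ord_iff hz hf, ofAdd_zero]
  exact Ring.ordFrac_ge_one_of_ne_zero (fun e => hf (by rw [e, map_zero]))

omit hX in
theorem ord_inv {z : X} {f : X.functionField} (hf : f ≠ 0) : Scheme.ord f⁻¹ z = - Scheme.ord f z := by
  have h := Scheme.ord_mul (x := z) hf (inv_ne_zero hf)
  rw [mul_inv_cancel₀ hf] at h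
  haveI : Nonempty (⊤ : X.Opens) := ⟨⟨z, trivial⟩⟩
  have h1 : Scheme.ord (1 : X.functionField) z = 0 := by
    have := Scheme.ord_of_isUnit (X := X) (U := ⊤) (f := 1) isUnit_one (x := z) trivial
    rwa [map_one] at this
  omega

theorem reg_of_ord_nonneg {z : X} (hz : Order.coheight z = 1) {f : X.functionField} (hf : f ≠ 0)
    (h : 0 ≤ Scheme.ord f z) : Reg f z := by
  haveI := isDVR_of_coheight hX hz
  haveI : Ring.KrullDimLE 1 (X.presheaf.stalk z) := krullDimLE_of_coheight_le hz.le
  rcases ValuationRing.isInteger_or_isInteger (X.presheaf.stalk z) f with ⟨a, ha⟩ | ⟨a, ha⟩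
  · exact ⟨a, ha⟩
  · have h1 : 0 ≤ Scheme.ord f⁻¹ z := ord_nonneg_of_reg hX hz (inv_ne_zero hf) ⟨a, ha⟩
    rw [ord_inv hf] at h1
    have h2 : Scheme.ord f⁻¹ z = 0 := by rw [ord_inv hf]; omega
    rw [Scheme.ord_eq_iff hz (inv_ne_zero hf), ← ha, ofAdd_zero] at h2
    obtain ⟨u, hu⟩ : IsUnit a := Ring.isUnit_iff_ordFrac_one_of_isDiscreteValuationRing.2 h2
    refine ⟨((u⁻¹ : _) : X.presheaf.stalk z), ?_⟩
    rw [map_units_inv, hu, ha, inv_inv]

theorem ord_eq_zero_iff {z : X} (hz : Order.coheight z = 1) {f : X.functionField} (hf : f ≠ 0) :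
    Scheme.ord f z = 0 ↔ Reg f z ∧ Reg f⁻¹ z := by
  constructor
  · intro h
    exact ⟨reg_of_ord_nonneg hX hz hf h.ge,
      reg_of_ord_nonneg hX hz (inv_ne_zero hf) (by rw [ord_inv hf, h]; rfl)⟩
  · rintro ⟨h1, h2⟩
    have h1' := ord_nonneg_of_reg hX hz hf h1
    have h2' := ord_nonneg_of_reg hX hz (inv_ne_zero hf) h2
    rw [ord_inv hf] at h2'
    omega

theorem ord_eq_of_germ_eq {z : X} (hz : Order.coheight z = 1) {f g : KUnits X}
    (h : germOf X z f = germOf X z g) : Scheme.ord (f : X.functionField) z = Scheme.ord (g : X.functionField) z := by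
  obtain ⟨h1, h2⟩ := germOf_eq_iff.1 h
  rw [Units.val_inv_eq_inv_val] at h2
  have h0 := (ord_eq_zero_iff hX hz (f⁻¹ * g).ne_zero).2 ⟨h1, h2⟩
  rw [Units.val_mul, Scheme.ord_mul (f⁻¹).ne_zero g.ne_zero, Units.val_inv_eq_inv_val, ord_inv f.ne_zero] at h0
  omega

/-- Rational functions with the same orders in codimension one have the same germ. -/
theorem germ_eq_of_ord_eq {y : X} {f g : KUnits X}
    (h : ∀ z, z ⤳ y → Order.coheight z = 1 → Scheme.ord (f : X.functionField) z = Scheme.ord (g : X.functionField) z) :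
    germOf X y f = germOf X y g := by
  refine germOf_eq_iff.2 ⟨reg_of_coheight_one hX fun z hz h1 => reg_of_ord_nonneg hX h1 (Units.ne_zero _) ?_,
    reg_of_coheight_one hX fun z hz h1 => reg_of_ord_nonneg hX h1 (Units.ne_zero _) ?_⟩
  · rw [Units.val_mul, Scheme.ord_mul (f⁻¹).ne_zero g.ne_zero, Units.val_inv_eq_inv_val, ord_inv f.ne_zero, h z hz h1]
    omega
  · rw [Units.val_inv_eq_inv_val, ord_inv (Units.ne_zero _), Units.val_mul, Scheme.ord_mul (f⁻¹).ne_zero g.ne_zero,
      Units.val_inv_eq_inv_val, ord_inv f.ne_zero, h z hz h1]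
    omega

theorem effective_iff_ord (D : Divisor X) :
    (IsEffective D ↔
      ∀ x : X, Order.coheight x = 1 → ∀ f : KUnits X, D.1 x = germOf X x f → 0 ≤ Scheme.ord (f : X.functionField) x) ∧
    ((∀ x : X, Order.coheight x = 1 → ∀ f : KUnits X, D.1 x = germOf X x f →
        Scheme.ord (f : X.functionField) x = 0) → D = 1) := by
  have key : ∀ E : Divisor X, (∀ x : X, Order.coheight x = 1 → ∀ f : KUnits X, E.1 x = germOf X x f →
      0 ≤ Scheme.ord (f : X.functionField) x) → IsEffective E := fun E h => isEffective_of_depth E fun x hd => by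
    obtain ⟨f, hf⟩ := QuotientGroup.mk_surjective (E.1 x)
    have hx := coheight_of_depth hX hd
    exact (isEffectiveAt_iff hf.symm).2 (reg_of_ord_nonneg hX hx f.ne_zero (h x hx f hf.symm))
  refine ⟨⟨fun h x hx f hf => ord_nonneg_of_reg hX hx f.ne_zero ((isEffectiveAt_iff hf).1 (h x)), key D⟩, fun h => ?_⟩
  refine Subtype.ext (funext fun x => eq_one_iff_effective.2 ⟨key D (fun y hy f hf => (h y hy f hf).ge) x,
    key D⁻¹ (fun y hy f hf => ?_) x⟩)
  have hf' : D.1 y = germOf X y f⁻¹ := by
    have : (D⁻¹).1 y = (D.1 y)⁻¹ := rfl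
    rw [this] at hf
    exact (inv_inv (D.1 y)).symm.trans (congrArg (·⁻¹) hf)
  have := h y hy _ hf'
  rw [Units.val_inv_eq_inv_val, ord_inv f.ne_zero] at this
  omega

omit [IsLocallyNoetherian X] hX in
theorem exists_prime_of_specializes {x z : X} (h : z ⤳ x) :
    ∃ q : PrimeSpectrum (X.presheaf.stalk x), X.fromSpecStalk x q = z :=
  X.range_fromSpecStalk.ge h

omit [IsLocallyNoetherian X] hX in
theorem specializes_fromSpecStalk {x : X} (q : PrimeSpectrum (X.presheaf.stalk x)) : X.fromSpecStalk x q ⤳ x := by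
  have : X.fromSpecStalk x q ∈ Set.range (X.fromSpecStalk x) := ⟨_, rfl⟩
  rwa [Scheme.range_fromSpecStalk] at this

omit [IsLocallyNoetherian X] hX in
theorem coheight_fromSpecStalk {x : X} (q : PrimeSpectrum (X.presheaf.stalk x)) :
    Order.coheight (X.fromSpecStalk x q) = q.asIdeal.height := by
  obtain ⟨U, hU, hxU, -⟩ := exists_isAffineOpen_mem_and_subset (x := x) (U := ⊤) trivial
  have e : X.fromSpecStalk x q = hU.fromSpec (Spec.map (X.presheaf.germ U x hxU) q) :=
    (congrArg (fun φ : Spec (X.presheaf.stalk x) ⟶ X => φ q) (hU.fromSpecStalk_eq_fromSpecStalk hxU)).symm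
  rw [e, coheight_eq_of_isOpenImmersion, ← idealHeight_eq_coheight]
  let _hA := TopCat.Presheaf.algebra_section_stalk X.presheaf (⟨x, hxU⟩ : U)
  haveI := hU.isLocalization_stalk ⟨x, hxU⟩
  exact IsLocalization.height_under (hU.primeIdealOf ⟨x, hxU⟩).asIdeal.primeCompl q.asIdeal

omit [IsLocallyNoetherian X] hX in
theorem reg_inv_iff {x : X} (q : PrimeSpectrum (X.presheaf.stalk x)) {π : X.presheaf.stalk x} (hπ : π ≠ 0) :
    Reg (algebraMap (X.presheaf.stalk x) X.functionField π)⁻¹ (X.fromSpecStalk x q) ↔ π ∉ q.asIdeal := by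
  have hπK : algebraMap (X.presheaf.stalk x) X.functionField π ≠ 0 := by simpa using hπ
  constructor
  · intro h hmem
    obtain ⟨c, hc, d, hcd⟩ := exists_not_mem_of_reg q.asIdeal q.isPrime h
    refine hc ?_
    have : c = d * π := IsFractionRing.injective (X.presheaf.stalk x) X.functionField (by
      rw [map_mul, ← hcd, mul_assoc, inv_mul_cancel₀ hπK, mul_one])
    rw [this]
    exact Ideal.mul_mem_left _ _ hmem
  · intro h
    have hsp := specializes_fromSpecStalk q
    have e : Spec.map (X.presheaf.stalkSpecializes hsp) (IsLocalRing.closedPoint _) = q := by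
      refine (X.fromSpecStalk x).isEmbedding.injective ?_
      rw [← Scheme.Hom.comp_apply, Scheme.SpecMap_stalkSpecializes_fromSpecStalk, Scheme.fromSpecStalk_closedPoint]
    have hu : IsUnit (X.presheaf.stalkSpecializes hsp π) := by
      by_contra hc
      exact h ((SetLike.ext_iff.1 (congrArg PrimeSpectrum.asIdeal e) π).1 ((IsLocalRing.mem_maximalIdeal _).2 hc))
    obtain ⟨u, hu⟩ := hu
    refine ⟨((u⁻¹ : _) : X.presheaf.stalk _), ?_⟩
    rw [map_units_inv, hu]
    congr 1
    show X.presheaf.stalkSpecializes _ (X.presheaf.stalkSpecializes hsp π) = _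
    rw [← CommRingCat.comp_apply, TopCat.Presheaf.stalkSpecializes_comp]
    rfl

theorem ord_pos_iff {x : X} (q : PrimeSpectrum (X.presheaf.stalk x))
    (hq : Order.coheight (X.fromSpecStalk x q) = 1) {π : X.presheaf.stalk x} (hπ : π ≠ 0) :
    0 ≤ Scheme.ord (algebraMap (X.presheaf.stalk x) X.functionField π) (X.fromSpecStalk x q) ∧
      (Scheme.ord (algebraMap (X.presheaf.stalk x) X.functionField π) (X.fromSpecStalk x q) = 0 ↔ π ∉ q.asIdeal) := by
  have hπK : algebraMap (X.presheaf.stalk x) X.functionField π ≠ 0 := by simpa using hπ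
  have hr : Reg (algebraMap (X.presheaf.stalk x) X.functionField π) (X.fromSpecStalk x q) :=
    reg_of_specializes (specializes_fromSpecStalk q) ⟨π, rfl⟩
  refine ⟨ord_nonneg_of_reg hX hq hπK hr, ?_⟩
  rw [ord_eq_zero_iff hX hq hπK, and_iff_right hr, reg_inv_iff q hπ]

theorem ufd_of_divisors
    (h : ∀ x₀ : X, Order.coheight x₀ = 1 → ∃ D : Divisor X,
        (∀ f : KUnits X, D.1 x₀ = germOf X x₀ f → Scheme.ord (f : X.functionField) x₀ = 1) ∧
          ∀ x : X, x ≠ x₀ → Order.coheight x = 1 → ∀ f : KUnits X, D.1 x = germOf X x f →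
            Scheme.ord (f : X.functionField) x = 0) (x : X) :
    UniqueFactorizationMonoid (X.presheaf.stalk x) := by
  refine UniqueFactorizationMonoid.iff_exists_prime_mem_of_isPrime.2 fun q₀ hq₀ hq₀p => ?_
  obtain ⟨a, ha, ha0⟩ := Submodule.exists_mem_ne_zero_of_ne_bot hq₀
  obtain ⟨q, hq, hqle⟩ := Ideal.exists_minimalPrimes_le ((Ideal.span_singleton_le_iff_mem q₀).2 ha)
  haveI : q.IsPrime := hq.1.1
  have haq : a ∈ q := hq.1.2 (Ideal.mem_span_singleton_self a)
  have hqh : q.height = 1 := by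
    refine le_antisymm (Ideal.height_le_one_of_isPrincipal_of_mem_minimalPrimes (Ideal.span {a}) q hq) ?_
    rw [ENat.one_le_iff_ne_zero]
    intro h0
    rw [Ideal.height_eq_zero_iff, IsDomain.minimalPrimes_eq_singleton_bot] at h0
    exact ha0 (by rwa [Set.mem_singleton_iff.1 h0, Ideal.mem_bot] at haq)
  let Q : PrimeSpectrum (X.presheaf.stalk x) := ⟨q, inferInstance⟩
  set z₀ := X.fromSpecStalk x Q with hz₀
  have hz1 : Order.coheight z₀ = 1 := (coheight_fromSpecStalk Q).trans hqh
  obtain ⟨D, hD1, hD0⟩ := h z₀ hz1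
  obtain ⟨U, f, hxU, hU⟩ := D.2 x
  have hordf : ∀ y, y ⤳ x → Order.coheight y = 1 → (y = z₀ → Scheme.ord (f : X.functionField) y = 1) ∧
      (y ≠ z₀ → Scheme.ord (f : X.functionField) y = 0) := fun y hy h1 =>
    ⟨fun e => by subst e; exact hD1 f (hU _ (hy.mem_open U.2 hxU)),
      fun hne => hD0 y hne h1 f (hU _ (hy.mem_open U.2 hxU))⟩
  obtain ⟨π, hπ⟩ : Reg (f : X.functionField) x := reg_of_coheight_one hX fun y hy h1 =>
    reg_of_ord_nonneg hX h1 f.ne_zero (by
      by_cases e : y = z₀
      · rw [(hordf y hy h1).1 e]; exact zero_le_one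
      · rw [(hordf y hy h1).2 e])
  have hπ0 : π ≠ 0 := fun e => f.ne_zero (by rw [← hπ, e, map_zero])
  have hπq : π ∈ q := by
    by_contra hc
    have := (ord_pos_iff hX Q hz1 hπ0).2.2 hc
    rw [hπ, (hordf z₀ (specializes_fromSpecStalk Q) hz1).1 rfl] at this
    exact one_ne_zero this
  have hspan : q = Ideal.span {π} := by
    refine le_antisymm (fun g hg => ?_) ((Ideal.span_singleton_le_iff_mem q).2 hπq)
    by_cases hg0 : g = 0
    · subst hg0; exact zero_mem _
    have hgK : algebraMap (X.presheaf.stalk x) X.functionField g ≠ 0 := by simpa using hg0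
    obtain ⟨e, he⟩ : Reg (algebraMap (X.presheaf.stalk x) X.functionField g * (f : X.functionField)⁻¹) x :=
      reg_of_coheight_one hX fun y hy h1 => reg_of_ord_nonneg hX h1 (mul_ne_zero hgK (inv_ne_zero f.ne_zero)) (by
        rw [Scheme.ord_mul hgK (inv_ne_zero f.ne_zero), ord_inv f.ne_zero]
        have h0 := ord_nonneg_of_reg hX h1 hgK (reg_of_specializes hy ⟨g, rfl⟩)
        by_cases e : y = z₀
        · have h2 : Scheme.ord (algebraMap (X.presheaf.stalk x) X.functionField g) y ≠ 0 := by
            subst e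
            exact fun h3 => (ord_pos_iff hX Q hz1 hg0).2.1 h3 hg
          rw [(hordf y hy h1).1 e]
          omega
        · rw [(hordf y hy h1).2 e]
          omega)
    refine Ideal.mem_span_singleton'.2 ⟨e, IsFractionRing.injective (X.presheaf.stalk x) X.functionField ?_⟩
    rw [map_mul, he, hπ, mul_assoc, inv_mul_cancel₀ f.ne_zero, mul_one]
  exact ⟨π, hqle hπq, (Ideal.span_singleton_prime hπ0).1 (hspan ▸ inferInstance)⟩

theorem divisor_of_ufd (hufd : ∀ x : X, UniqueFactorizationMonoid (X.presheaf.stalk x))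
    (x₀ : X) (h₀ : Order.coheight x₀ = 1) :
    ∃ D : Divisor X, (∀ f : KUnits X, D.1 x₀ = germOf X x₀ f → Scheme.ord (f : X.functionField) x₀ = 1) ∧
      ∀ x : X, x ≠ x₀ → Order.coheight x = 1 → ∀ f : KUnits X, D.1 x = germOf X x f →
        Scheme.ord (f : X.functionField) x = 0 := by
  classical
  have hloc : ∀ x : X, ∃ f : KUnits X, ∀ z, z ⤳ x → Order.coheight z = 1 →
      Scheme.ord (f : X.functionField) z = if z = x₀ then 1 else 0 := fun x => by
    by_cases hx : x₀ ⤳ x
    · haveI := hufd x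
      obtain ⟨Q, hQ⟩ := exists_prime_of_specializes hx
      have hQh : Q.asIdeal.height = 1 := by rw [← coheight_fromSpecStalk, hQ, h₀]
      have hQb : Q.asIdeal ≠ ⊥ := fun e => by
        rw [e, Ideal.height_eq_zero_iff.2] at hQh
        · exact zero_ne_one hQh
        · rw [IsDomain.minimalPrimes_eq_singleton_bot]; rfl
      obtain ⟨π, hπQ, hπp⟩ := UniqueFactorizationMonoid.iff_exists_prime_mem_of_isPrime.1 inferInstance
        Q.asIdeal hQb Q.isPrime
      haveI : (Ideal.span {π}).IsPrime := (Ideal.span_singleton_prime hπp.ne_zero).2 hπp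
      have hspan : Ideal.span {π} = Q.asIdeal := by
        by_contra hne
        have hlt : Ideal.span {π} < Q.asIdeal :=
          lt_of_le_of_ne ((Ideal.span_singleton_le_iff_mem _).2 hπQ) hne
        have h3 := Ideal.height_strict_mono_of_isPrime hlt
        rw [hQh, ENat.lt_one_iff_eq_zero, Ideal.height_eq_zero_iff,
          IsDomain.minimalPrimes_eq_singleton_bot, Set.mem_singleton_iff, Ideal.span_singleton_eq_bot] at h3
        exact hπp.ne_zero h3
      have hπK : algebraMap (X.presheaf.stalk x) X.functionField π ≠ 0 := by simpa using hπp.ne_zero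
      refine ⟨Units.mk0 _ hπK, fun z hz h1 => ?_⟩
      obtain ⟨P, rfl⟩ := exists_prime_of_specializes hz
      show Scheme.ord (algebraMap (X.presheaf.stalk x) X.functionField π) _ = _
      split_ifs with he
      · obtain rfl : P = Q := (X.fromSpecStalk x).isEmbedding.injective (he.trans hQ.symm)
        haveI := isDVR_of_coheight hX h1
        haveI : Ring.KrullDimLE 1 (X.presheaf.stalk (X.fromSpecStalk x P)) := krullDimLE_of_coheight_le h1.le
        obtain ⟨hge, hiff⟩ := ord_pos_iff hX P h1 hπp.ne_zero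
        have hne : Scheme.ord (algebraMap (X.presheaf.stalk x) X.functionField π) (X.fromSpecStalk x P) ≠ 0 :=
          fun h => hiff.1 h hπQ
        obtain ⟨ϖ, hϖ⟩ := IsDiscreteValuationRing.exists_irreducible (X.presheaf.stalk (X.fromSpecStalk x P))
        set w := algebraMap (X.presheaf.stalk (X.fromSpecStalk x P)) X.functionField ϖ with hw
        have hw0 : w ≠ 0 := by simpa [hw] using hϖ.ne_zero
        have hw1 : Scheme.ord w (X.fromSpecStalk x P) = 1 := by
          rw [Scheme.ord_eq_iff h1 hw0]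
          exact Ring.ordFrac_irreducible hϖ
        obtain ⟨c, hc, d, hcd⟩ := exists_not_mem_of_reg (f := w) P.asIdeal P.isPrime ⟨ϖ, rfl⟩
        have hc0 : c ≠ 0 := fun e => hc (e ▸ zero_mem _)
        have hcK : algebraMap (X.presheaf.stalk x) X.functionField c ≠ 0 := by simpa using hc0
        have hd0 : d ≠ 0 := fun e => mul_ne_zero hcK hw0 (by rw [hcd, e, map_zero])
        have hcc : Scheme.ord (algebraMap (X.presheaf.stalk x) X.functionField c) (X.fromSpecStalk x P) = 0 :=
          (ord_pos_iff hX P h1 hc0).2.2 hc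
        have hdd : Scheme.ord (algebraMap (X.presheaf.stalk x) X.functionField d) (X.fromSpecStalk x P) = 1 := by
          rw [← hcd, Scheme.ord_mul hcK hw0, hcc, hw1]; rfl
        have hdP : d ∈ P.asIdeal := by
          by_contra hc'
          rw [(ord_pos_iff hX P h1 hd0).2.2 hc'] at hdd
          exact zero_ne_one hdd
        obtain ⟨e, rfl⟩ := Ideal.mem_span_singleton'.1 (hspan.ge hdP)
        have he0 : e ≠ 0 := left_ne_zero_of_mul hd0
        rw [map_mul, Scheme.ord_mul (by simpa using he0) hπK] at hdd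
        have := (ord_pos_iff hX P h1 he0).1
        omega
      · refine (ord_pos_iff hX P h1 hπp.ne_zero).2.2 fun hmem => he ?_
        have hle : Q.asIdeal ≤ P.asIdeal := hspan ▸ (Ideal.span_singleton_le_iff_mem _).2 hmem
        have hPQ : Q.asIdeal = P.asIdeal := by
          by_contra hne
          have h3 := Ideal.height_strict_mono_of_isPrime (lt_of_le_of_ne hle hne)
          rw [hQh, ← coheight_fromSpecStalk P, h1] at h3
          exact lt_irrefl _ h3
        rw [← PrimeSpectrum.ext hPQ, hQ]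
    · refine ⟨1, fun z hz h1 => ?_⟩
      rw [if_neg fun e => hx (by rw [← e]; exact hz)]
      exact (ord_eq_zero_iff hX h1 one_ne_zero).2 ⟨⟨1, map_one _⟩, ⟨1, by rw [map_one, inv_one]⟩⟩
  choose d hd using hloc
  let D : Divisor X := ⟨fun x => germOf X x (d x), fun x => ?_⟩
  · refine ⟨D, fun f hf => ?_, fun x hne h1 f hf => ?_⟩
    · rw [← ord_eq_of_germ_eq hX h₀ hf, hd x₀ x₀ specializes_rfl h₀, if_pos rfl]
    · rw [← ord_eq_of_germ_eq hX h1 hf, hd x x specializes_rfl h1, if_neg hne]
  -- local constancy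
  obtain ⟨V, hV, hxV, -⟩ := exists_isAffineOpen_mem_and_subset (x := x) (U := ⊤) trivial
  haveI : IsNoetherianRing Γ(X, V) := IsLocallyNoetherian.component_noetherian ⟨V, hV⟩
  haveI : NoetherianSpace (V : Set X) := noetherianSpace_of_isAffineOpen V hV
  let T : Set X := supp (div (d x) : Divisor X) ∪ closure {x₀}
  have hT : IsClosed T := (supp_isClosed _).union isClosed_closure
  haveI : NoetherianSpace (T ∩ V : Set X) :=
    (Topology.IsEmbedding.inclusion (Set.inter_subset_right : T ∩ V ⊆ (V : Set X))).isInducing.noetherianSpace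
  haveI : Finite (irreducibleComponents (T ∩ V : Set X)) := NoetherianSpace.finite_irreducibleComponents
  let g : irreducibleComponents (T ∩ V : Set X) → X := fun C =>
    (IsIrreducible.image C.2.1 Subtype.val continuous_subtype_val.continuousOn).genericPoint
  let Bad : Set X := ⋃ C ∈ {C | ¬ g C ⤳ x}, closure {g C}
  have hBad : IsClosed Bad := Set.Finite.isClosed_biUnion (Set.toFinite _) fun _ _ => isClosed_closure
  refine ⟨V ⊓ ⟨Badᶜ, hBad.isOpen_compl⟩, d x, ⟨hxV, fun h => ?_⟩, fun y hy => ?_⟩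
  · obtain ⟨C, hC, hxC⟩ := Set.mem_iUnion₂.1 h
    exact hC (specializes_iff_mem_closure.2 hxC)
  refine germ_eq_of_ord_eq hX fun z hzy h1 => ?_
  rw [hd y z hzy h1]
  have hzV : z ∈ V := hzy.mem_open V.2 hy.1
  have hzB : z ∉ Bad := hzy.mem_open hBad.isOpen_compl hy.2
  by_cases hzT : z ∈ T
  · let C : irreducibleComponents (T ∩ V : Set X) :=
      ⟨irreducibleComponent ⟨z, hzT, hzV⟩, irreducibleComponent_mem_irreducibleComponents _⟩
    have hirr := IsIrreducible.image C.2.1 Subtype.val continuous_subtype_val.continuousOn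
    have hgp : IsGenericPoint (g C) (closure (Subtype.val '' C.1)) := hirr.isGenericPoint_genericPoint_closure
    have hgz : g C ⤳ z := hgp.specializes (subset_closure ⟨_, mem_irreducibleComponent, rfl⟩)
    have hgx : g C ⤳ x := by
      by_contra hc
      exact hzB (Set.mem_iUnion₂.2 ⟨C, hc, specializes_iff_mem_closure.1 hgz⟩)
    have hgT : g C ∈ T := (closure_minimal (by rintro _ ⟨w, -, rfl⟩; exact w.2.1) hT) hgp.mem
    have hgne : g C ≠ genericPoint X := fun e => by
      rcases hgT with h | h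
      · exact generic_not_mem_supp _ (e ▸ h)
      · have hx₀ : x₀ = genericPoint X :=
          ((specializes_iff_mem_closure.2 (e ▸ h)).antisymm ((genericPoint_spec X).specializes trivial)).eq
        rw [hx₀] at h₀
        have h' := ringKrullDim_stalk_eq_coheight (genericPoint X)
        rw [ringKrullDim_eq_zero_of_isField (Field.toIsField X.functionField), h₀] at h'
        exact zero_ne_one h'
    obtain ⟨P, hP⟩ := exists_prime_of_specializes hgz
    have hPz : P = IsLocalRing.closedPoint _ := by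
      haveI := isDVR_of_coheight hX h1
      refine PrimeSpectrum.ext (IsLocalRing.eq_maximalIdeal (P.isPrime.isMaximal_of_ne_bot fun e => hgne ?_))
      rw [← hP]
      obtain ⟨P₀, hP₀⟩ := exists_prime_of_specializes (show genericPoint X ⤳ z from (genericPoint_spec X).specializes trivial)
      have : P ⤳ P₀ := (PrimeSpectrum.le_iff_specializes _ _).1 (by
        show P.asIdeal ≤ P₀.asIdeal
        rw [e]; exact bot_le)
      exact ((this.map (X.fromSpecStalk z).continuous).antisymm (by rw [hP₀]; exact (genericPoint_spec X).specializes trivial)).eq.trans hP₀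
    have : g C = z := by rw [← hP, hPz, Scheme.fromSpecStalk_closedPoint]
    exact (hd x z (this ▸ hgx) h1).symm
  · have hzd : z ∉ supp (div (d x) : Divisor X) := fun h => hzT (Or.inl h)
    rw [if_neg fun e => hzT (Or.inr (by rw [e]; exact subset_closure rfl))]
    obtain ⟨h2, h3⟩ := germOf_eq_one_iff.1 (not_not.1 hzd)
    rw [Units.val_inv_eq_inv_val] at h3
    exact ((ord_eq_zero_iff hX h1 (d x).ne_zero).2 ⟨h2, h3⟩).symm

end CDivCoreLib
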